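import Mathlib

/-!
# Ext¹ between monomial modules over the cubical monomial rings `k + t^n k[[t]]`
-/

set_option autoImplicit false
set_option backward.isDefEq.respectTransparency false
set_option linter.style.haveILetI false

universe u

open CategoryTheory Abelian PowerSeries

namespace Groth.Agent.CubicExtLib

/-- The first Ext module as the cokernel of restriction along a projective presentation. -/
theorem length_ext_one {A : Type u} [CommRing A] {K P M N : Type u} [AddCommGroup K] [Module A K]
    [AddCommGroup P] [Module A P] [Module.Projective A P] [AddCommGroup M] [Module A M]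
    [AddCommGroup N] [Module A N] {V : Type*} [AddCommGroup V] [Module A V]
    (i : K →ₗ[A] P) (p : P →ₗ[A] M) (hi : Function.Injective i) (hp : Function.Surjective p)
    (hip : Function.Exact i p) (Φ : (K →ₗ[A] N) →ₗ[A] V) (hΦ : Function.Surjective Φ)
    (hker : ∀ φ, Φ φ = 0 ↔ ∃ ψ : P →ₗ[A] N, φ = ψ ∘ₗ i) :
    Module.length A (Ext.{u} (ModuleCat.of A M) (ModuleCat.of A N) 1) = Module.length A V := by
  classical
  let S : ShortComplex (ModuleCat.{u} A) := ShortComplex.mk (ModuleCat.ofHom i) (ModuleCat.ofHom p) (by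
    ext x; exact hip.apply_apply_eq_zero x)
  have hS : S.ShortExact :=
    { exact := (ShortComplex.ShortExact.moduleCat_exact_iff_function_exact _).2 hip
      mono_f := (ModuleCat.mono_iff_injective _).2 hi
      epi_g := (ModuleCat.epi_iff_surjective _).2 hp }
  haveI : Projective S.X₂ := (IsProjective.iff_projective P).1 inferInstance
  let D : (K →ₗ[A] N) →ₗ[A] Ext.{u} S.X₃ (ModuleCat.of A N) 1 :=
    { toFun := fun φ => hS.extClass.comp (Ext.mk₀ (ModuleCat.ofHom φ : S.X₁ ⟶ ModuleCat.of A N)) (add_zero 1)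
      map_add' := fun φ ψ => by
        rw [ModuleCat.ofHom_add, Ext.mk₀_add, Ext.comp_add]
      map_smul' := fun a φ => by
        simp only [RingHom.id_apply]
        rw [← Ext.comp_smul, ← Ext.mk₀_smul]
        rfl }
  have hD : Function.Surjective D := fun x => by
    obtain ⟨x₁, hx₁⟩ := Ext.contravariant_sequence_exact₃ hS _ x (Ext.eq_zero_of_projective _)
      (n₀ := 0) (add_zero 1)
    obtain ⟨f, rfl⟩ := Ext.mk₀_bijective _ _ |>.2 x₁
    exact ⟨f.hom, hx₁⟩
  have hDker : LinearMap.ker D = LinearMap.ker Φ := by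
    ext φ
    rw [LinearMap.mem_ker, LinearMap.mem_ker, hker]
    constructor
    · intro h
      obtain ⟨x₂, hx₂⟩ := Ext.contravariant_sequence_exact₁ hS _
        (Ext.mk₀ (ModuleCat.ofHom φ : S.X₁ ⟶ ModuleCat.of A N)) (add_zero 1) h
      obtain ⟨g, rfl⟩ := Ext.mk₀_bijective _ _ |>.2 x₂
      rw [Ext.mk₀_comp_mk₀] at hx₂
      exact ⟨g.hom, (congrArg ModuleCat.Hom.hom ((Ext.mk₀_bijective _ _).1 hx₂)).symm⟩
    · rintro ⟨ψ, rfl⟩
      show hS.extClass.comp (Ext.mk₀ (S.f ≫ ModuleCat.ofHom ψ)) (add_zero 1) = 0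
      rw [← Ext.mk₀_comp_mk₀]
      exact hS.extClass_comp_assoc _
  exact ((D.quotKerEquivOfSurjective hD).symm.trans
    ((Submodule.quotEquivOfEq _ _ hDker).trans (Φ.quotKerEquivOfSurjective hΦ))).length_eq

variable {k : Type u} [Field k] {n : ℕ} (A : Subalgebra k (PowerSeries k))

/-- `A` consists of the series with no terms of degree `1, …, n - 1`. -/
def IsCubical (n : ℕ) : Prop :=
  ∀ f : PowerSeries k, f ∈ A ↔ ∀ m : ℕ, PowerSeries.coeff m f ≠ 0 → (m = 0 ∨ n ≤ m)

variable {A}

/-- The constant coefficient, as a map on `A`. -/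
noncomputable def ev (A : Subalgebra k (PowerSeries k)) : A →+* k :=
  (PowerSeries.constantCoeff).comp A.val.toRingHom

@[reducible] noncomputable def resModule (A : Subalgebra k (PowerSeries k)) : Module A k :=
  Module.compHom k (ev A)

theorem length_res (A : Subalgebra k (PowerSeries k)) :
    letI := resModule A
    Module.length A k = 1 := by
  letI := resModule A
  rw [Module.length_eq_one_iff]
  refine { __ := (inferInstance : Nontrivial (Submodule A k)), eq_bot_or_eq_top := fun W => ?_ }
  rcases eq_or_ne W ⊥ with h | h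
  · exact Or.inl h
  · obtain ⟨x, hx, hx0⟩ := Submodule.exists_mem_ne_zero_of_ne_bot h
    refine Or.inr (eq_top_iff.2 fun y _ => ?_)
    have : y = (algebraMap k A (y / x)) • x := by
      show y = ev A (algebraMap k A (y / x)) * x
      simp [ev, hx0]
    rw [this]
    exact W.smul_mem _ hx

theorem length_pi_res (A : Subalgebra k (PowerSeries k)) (ι : Type*) [Fintype ι] :
    letI := resModule A
    Module.length A (ι → k) = (Fintype.card ι : ℕ∞) := by
  letI := resModule A
  rw [Module.length_pi_of_fintype]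
  simp [length_res]

theorem coeff_mul_lt (hA : IsCubical A n) (a : A) (f : PowerSeries k) {m : ℕ} (hm : m < n) :
    coeff m ((a : PowerSeries k) * f) = ev A a * coeff m f := by
  classical
  rw [PowerSeries.coeff_mul]
  refine (Finset.sum_eq_single (0, m) ?_ ?_).trans ?_
  · rintro ⟨p, q⟩ hpq hne
    rw [Finset.HasAntidiagonal.mem_antidiagonal] at hpq
    have hp : p ≠ 0 := by rintro rfl; simp_all
    have : coeff p (a : PowerSeries k) = 0 := by
      by_contra h
      rcases (hA a).1 a.2 p h with h1 | h1
      · exact hp h1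
      · omega
    simp [this]
  · intro h; simp at h
  · simp [ev]

theorem eq_C_add (hA : IsCubical A n) (a : A) :
    ∃ s : PowerSeries k, (a : PowerSeries k) = C (ev A a) + X ^ n * s := by
  obtain ⟨s, hs⟩ : (X : PowerSeries k) ^ n ∣ (a : PowerSeries k) - C (ev A a) := by
    rw [PowerSeries.X_pow_dvd_iff]
    intro m hm
    rcases Nat.eq_zero_or_pos m with rfl | hm0
    · simp [ev]
    · have : coeff m (a : PowerSeries k) = 0 := by
        by_contra h
        rcases (hA a).1 a.2 m h with h1 | h1 <;> omega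
      simp [this, PowerSeries.coeff_C, hm0.ne']
  exact ⟨s, by rw [← hs]; ring⟩

theorem X_pow_mul_mem (hA : IsCubical A n) (s : PowerSeries k) : X ^ n * s ∈ A := by
  refine (hA _).2 fun m hm => Or.inr ?_
  by_contra h
  exact hm ((PowerSeries.X_pow_dvd_iff).1 (Dvd.intro s rfl) m (not_le.1 h))

/-- Membership in the span of monomials below `n`, containing `1`. -/
theorem mem_span_monomial (hA : IsCubical A n) {E : Finset ℕ} (h0 : 0 ∈ E) (hE : ∀ e ∈ E, e < n)
    (f : PowerSeries k) :
    f ∈ Submodule.span A ((fun a : ℕ => (X : PowerSeries k) ^ a) '' (E : Set ℕ)) ↔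
      ∀ m, m < n → coeff m f ≠ 0 → m ∈ E := by
  classical
  constructor
  · intro hf
    induction hf using Submodule.span_induction with
    | mem x hx =>
      obtain ⟨e, he, rfl⟩ := hx
      intro m _ hne
      rw [PowerSeries.coeff_X_pow] at hne
      by_cases h : m = e
      · exact h ▸ he
      · simp [h] at hne
    | zero => intro m _ h; simp at h
    | add x y _ _ hx hy =>
      intro m hm h
      by_contra hmE
      exact h (by rw [map_add, not_not.1 fun h' => hmE (hx m hm h'), not_not.1 fun h' => hmE (hy m hm h'), add_zero])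
    | smul a x _ hx =>
      intro m hm h
      rw [show a • x = (a : PowerSeries k) * x from rfl, coeff_mul_lt hA a x hm] at h
      exact hx m hm (right_ne_zero_of_mul h)
  · intro h
    set S := Submodule.span A ((fun a : ℕ => (X : PowerSeries k) ^ a) '' (E : Set ℕ))
    have hg : ∀ e ∈ E, (X : PowerSeries k) ^ e ∈ S := fun e he => Submodule.subset_span ⟨e, he, rfl⟩
    let P : PowerSeries k := ∑ e ∈ E, C (coeff e f) * X ^ e
    have hP : P ∈ S := Submodule.sum_mem _ fun e he => by
      have := S.smul_mem (algebraMap k A (coeff e f)) (hg e he)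
      simpa [PowerSeries.smul_eq_C_mul] using this
    obtain ⟨s, hs⟩ : (X : PowerSeries k) ^ n ∣ f - P := by
      rw [PowerSeries.X_pow_dvd_iff]
      intro m hm
      rw [map_sub, map_sum]
      simp only [coeff_C_mul, coeff_X_pow, mul_ite, mul_one, mul_zero, Finset.sum_ite_eq]
      by_cases hmE : m ∈ E
      · simp [hmE]
      · simp [hmE, not_not.1 fun h' => hmE (h m hm h')]
    have := S.add_mem hP (S.smul_mem (⟨X ^ n * s, X_pow_mul_mem hA s⟩ : A) (hg 0 h0))
    rw [show (⟨X ^ n * s, X_pow_mul_mem hA s⟩ : A) • (X : PowerSeries k) ^ 0 = (X ^ n * s) * 1 by rfl,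
      mul_one, ← hs, add_sub_cancel] at this
    exact this

set_option synthInstance.maxHeartbeats 400000 in
set_option maxHeartbeats 2000000 in
/-- The general computation. -/
theorem length_ext_monomial (hA : IsCubical A n) {g : ℕ} (e : Fin g → ℕ) (he : Function.Injective e)
    (hepos : ∀ a, 0 < e a) (hen : ∀ a, e a < n)
    {M N : Type u} [AddCommGroup M] [Module A M] [AddCommGroup N] [Module A N]
    (ιM : M →ₗ[A] PowerSeries k) (hιM : Function.Injective ιM)
    (hM : ∀ f, f ∈ LinearMap.range ιM ↔
      f ∈ Submodule.span A (insert (1 : PowerSeries k) (Set.range fun a => X ^ e a)))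
    (ιN : N →ₗ[A] PowerSeries k) (hιN : Function.Injective ιN)
    {ι : Type} [Fintype ι] (Φ₀ : (Fin g → PowerSeries k) →ₗ[k] (ι → k))
    (hsurj : ∀ v, ∃ x : Fin g → PowerSeries k,
      (∀ a r, r * x a ∈ LinearMap.range ιN) ∧ Φ₀ x = v)
    (hker : ∀ x : Fin g → PowerSeries k, (∀ a r, r * x a ∈ LinearMap.range ιN) →
      (Φ₀ x = 0 ↔ ∃ r₀ ∈ LinearMap.range ιN, ∃ r : Fin g → PowerSeries k,
        (∀ a, r a ∈ LinearMap.range ιN) ∧ ∀ a, x a = X ^ n * (r a - X ^ e a * r₀))) :
    Module.length A (Ext.{u} (ModuleCat.of A M) (ModuleCat.of A N) 1) = (Fintype.card ι : ℕ∞) := by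
  classical
  letI := resModule A
  -- the presentation
  let p₀ : (A × (Fin g → A)) →ₗ[A] PowerSeries k :=
    (LinearMap.toSpanSingleton A _ 1).coprod (Fintype.linearCombination A fun a => X ^ e a)
  have hp₀ : ∀ f, p₀ f = (f.1 : PowerSeries k) + ∑ a, (f.2 a : PowerSeries k) * X ^ e a := fun f => by
    simp only [p₀, LinearMap.coprod_apply, LinearMap.toSpanSingleton_apply,
      Fintype.linearCombination_apply]
    rw [show f.1 • (1 : PowerSeries k) = (f.1 : PowerSeries k) * 1 from rfl, mul_one]
    rfl
  have hp₀range : LinearMap.range p₀ = LinearMap.range ιM := by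
    ext f
    rw [hM]
    simp only [p₀, LinearMap.range_coprod, Fintype.range_linearCombination,
      LinearMap.range_toSpanSingleton, Submodule.span_insert]
  let E := LinearEquiv.ofInjective ιM hιM
  let p : (A × (Fin g → A)) →ₗ[A] M :=
    E.symm.toLinearMap ∘ₗ p₀.codRestrict (LinearMap.range ιM) (fun f => hp₀range ▸ LinearMap.mem_range_self p₀ f)
  have hpι : ∀ f, ιM (p f) = p₀ f := fun f => by
    simp [p, E]
  have hpsurj : Function.Surjective p := fun m => by
    obtain ⟨f, hf⟩ : ιM m ∈ LinearMap.range p₀ := hp₀range ▸ LinearMap.mem_range_self ιM m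
    exact ⟨f, hιM (by rw [hpι, hf])⟩
  -- elements of the kernel
  have hconst : ∀ f : A × (Fin g → A), p₀ f = 0 → ∀ a, ev A (f.2 a) = 0 := by
    intro f hf a
    have h1 := congrArg (coeff (e a)) hf
    rw [hp₀, map_add, map_sum, map_zero] at h1
    have h2 : coeff (e a) (f.1 : PowerSeries k) = 0 := by
      by_contra h
      rcases (hA _).1 f.1.2 _ h with h3 | h3
      · exact (hepos a).ne' h3
      · exact (hen a).not_ge h3
    rw [h2, zero_add, Finset.sum_eq_single a, coeff_mul_lt hA _ _ (hen a)] at h1
    · simpa using h1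
    · intro b _ hb
      rw [coeff_mul_lt hA _ _ (hen a), coeff_X_pow, if_neg (fun h => hb (he h.symm)), mul_zero]
    · simp
  let K := LinearMap.ker p
  have hK : ∀ f, f ∈ K ↔ p₀ f = 0 := fun f => by
    rw [LinearMap.mem_ker, ← hpι, map_eq_zero_iff ιM hιM]
  let sh : PowerSeries k → A := fun s => ⟨X ^ n * s, X_pow_mul_mem hA s⟩
  let u : Fin g → PowerSeries k → K := fun a r => ⟨(sh (-(r * X ^ e a)), Pi.single a (sh r)), (hK _).2 (by
    rw [hp₀, Finset.sum_eq_single a]
    · simp [sh]; ring
    · intro b _ hb; simp [Pi.single_eq_of_ne hb]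
    · simp)⟩
  have hdecomp : ∀ f : K, ∃ r : Fin g → PowerSeries k,
      (∀ a, ((f.1.2 a : A) : PowerSeries k) = X ^ n * r a) ∧ f = ∑ a, u a (r a) := by
    intro f
    have h : ∀ a, ∃ r, ((f.1.2 a : A) : PowerSeries k) = X ^ n * r := fun a => by
      obtain ⟨s, hs⟩ := eq_C_add hA (f.1.2 a)
      exact ⟨s, by rw [hs, hconst f.1 ((hK _).1 f.2) a, map_zero, zero_add]⟩
    choose r hr using h
    refine ⟨r, hr, Subtype.ext ?_⟩
    rw [Submodule.coe_sum]
    refine Prod.ext ?_ ?_
    · rw [Prod.fst_sum]
      apply Subtype.ext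
      have h0 := (hK _).1 f.2
      rw [hp₀, add_eq_zero_iff_eq_neg] at h0
      rw [h0, AddSubmonoidClass.coe_finsetSum, ← Finset.sum_neg_distrib]
      exact Finset.sum_congr rfl fun a _ => by simp [u, sh, hr]; ring
    · rw [Prod.snd_sum]
      funext b
      rw [Finset.sum_apply, Finset.sum_eq_single b]
      · apply Subtype.ext; simp [u, sh, hr]
      · intro a _ ha; simp [u, Pi.single_eq_of_ne ha.symm]
      · simp
  -- a homomorphism is determined by its values
  let val : (K →ₗ[A] N) → Fin g → PowerSeries k := fun φ a => ιN (φ (u a 1))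
  have hXn : (X : PowerSeries k) ^ n ≠ 0 := pow_ne_zero _ PowerSeries.X_ne_zero
  have hlin : ∀ (φ : K →ₗ[A] N) a r, ιN (φ (u a r)) = r * val φ a := by
    intro φ a r
    have h1 : sh 1 • u a r = sh r • u a 1 := by
      refine Subtype.ext (Prod.ext (Subtype.ext ?_) (funext fun b => Subtype.ext ?_))
      · simp [u, sh]; ring
      · rcases eq_or_ne b a with rfl | hb
        · simp [u, sh]; ring
        · simp [u, Pi.single_eq_of_ne hb]
    have h2 := congrArg (fun z => ιN (φ z)) h1
    simp only [map_smul] at h2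
    rw [show ∀ (c : A) (z : PowerSeries k), c • z = (c : PowerSeries k) * z from fun _ _ => rfl,
      show ∀ (c : A) (z : PowerSeries k), c • z = (c : PowerSeries k) * z from fun _ _ => rfl] at h2
    simp only [sh, mul_one, mul_assoc] at h2
    exact mul_left_cancel₀ hXn h2
  have hadm : ∀ φ a r, r * val φ a ∈ LinearMap.range ιN := fun φ a r => ⟨_, hlin φ a r⟩
  have hval_smul : ∀ (c : A) φ, val (c • φ) = fun a => (c : PowerSeries k) * val φ a := fun c φ => by
    funext a
    simp [val, map_smul]
    rfl
  let Φ : (K →ₗ[A] N) →ₗ[A] (ι → k) :=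
    { toFun := fun φ => Φ₀ (val φ)
      map_add' := fun φ ψ => by
        rw [← map_add]
        exact congrArg Φ₀ (funext fun a => by simp [val])
      map_smul' := fun c φ => by
        obtain ⟨s, hs⟩ := eq_C_add hA c
        have hsplit : val (c • φ) = ev A c • val φ + fun a => X ^ n * (s * val φ a) := by
          rw [hval_smul]
          funext a
          rw [hs, Pi.add_apply, Pi.smul_apply, PowerSeries.smul_eq_C_mul]
          ring
        have hz : Φ₀ (fun a => X ^ n * (s * val φ a)) = 0 := by
          refine (hker _ fun a r => ?_).2 ⟨0, zero_mem _, fun a => s * val φ a, fun a => hadm φ a s,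
            fun a => by simp⟩
          rw [← mul_assoc, ← mul_assoc]
          exact hadm φ a _
        show Φ₀ (val (c • φ)) = _
        rw [hsplit, map_add, map_smul, hz, add_zero]
        rfl }
  rw [← length_pi_res A ι]
  refine length_ext_one (A := A) (K := K) (N := N) K.subtype p Subtype.val_injective hpsurj (fun f => ?_) Φ ?_ ?_
  · exact ⟨fun h => ⟨⟨f, h⟩, rfl⟩, by rintro ⟨z, rfl⟩; exact z.2⟩
  · intro v
    obtain ⟨x, hx, rfl⟩ := hsurj v
    let q : PowerSeries k → PowerSeries k := fun f => PowerSeries.mk fun m => coeff (m + n) f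
    have hq : ∀ r, q (X ^ n * r) = r := fun r => by
      ext m
      simp [q, PowerSeries.coeff_X_pow_mul]
    have hmem : ∀ f : K, (∑ a, q (f.1.2 a : PowerSeries k) * x a) ∈ LinearMap.range ιN :=
      fun f => Submodule.sum_mem _ fun a _ => hx a _
    let φ₀ : K →ₗ[A] PowerSeries k :=
      { toFun := fun f => ∑ a, q (f.1.2 a : PowerSeries k) * x a
        map_add' := fun f f' => by
          rw [← Finset.sum_add_distrib]
          refine Finset.sum_congr rfl fun a _ => ?_
          rw [← add_mul]
          congr 1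
        map_smul' := fun c f => by
          obtain ⟨r, hr, -⟩ := hdecomp f
          simp only [RingHom.id_apply, show ∀ (c : A) (z : PowerSeries k),
            c • z = (c : PowerSeries k) * z from fun _ _ => rfl, Finset.mul_sum, ← mul_assoc]
          refine Finset.sum_congr rfl fun a _ => congrArg (· * x a) ?_
          rw [show ((c • f : K).1.2 a : PowerSeries k) = (c : PowerSeries k) * (f.1.2 a : PowerSeries k) from rfl,
            hr a, mul_left_comm, hq, hq] }
    let EN := LinearEquiv.ofInjective ιN hιN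
    let φ : K →ₗ[A] N := EN.symm.toLinearMap ∘ₗ φ₀.codRestrict _ hmem
    refine ⟨φ, congrArg Φ₀ (funext fun a => ?_)⟩
    show ιN (EN.symm ⟨φ₀ (u a 1), _⟩) = x a
    rw [show ιN (EN.symm ⟨φ₀ (u a 1), hmem _⟩) = φ₀ (u a 1) from congrArg Subtype.val (EN.apply_symm_apply _)]
    show ∑ b, q ((u a 1).1.2 b : PowerSeries k) * x b = x a
    rw [Finset.sum_eq_single a]
    · simp only [u, Pi.single_eq_same, sh]; rw [hq 1, one_mul]
    · intro b _ hb
      have : q 0 = 0 := by ext m; simp [q]
      simp [u, Pi.single_eq_of_ne hb, this]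
    · simp
  · intro φ
    have hpush : ∀ (ψ : A × (Fin g → A) →ₗ[A] N) a,
        ιN (ψ (u a 1).1) = X ^ n * (ιN (ψ (0, Pi.single a 1)) - X ^ e a * ιN (ψ (1, 0))) := by
      intro ψ a
      have h1 : (u a 1).1 = sh (-(1 * X ^ e a)) • ((1, 0) : A × (Fin g → A)) + sh 1 • (0, Pi.single a 1) := by
        refine Prod.ext (by simp [u]) (funext fun b => ?_)
        rcases eq_or_ne b a with rfl | hb
        · simp [u]
        · simp [u, Pi.single_eq_of_ne hb]
      rw [h1, map_add, map_smul, map_smul, map_add, map_smul, map_smul]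
      rw [show ∀ (c : A) (z : PowerSeries k), c • z = (c : PowerSeries k) * z from fun _ _ => rfl,
        show ∀ (c : A) (z : PowerSeries k), c • z = (c : PowerSeries k) * z from fun _ _ => rfl]
      simp only [sh]
      ring
    show Φ₀ (val φ) = 0 ↔ _
    rw [hker _ (hadm φ)]
    constructor
    · rintro ⟨r₀, ⟨y₀, rfl⟩, r, hr, hx⟩
      choose y hy using hr
      let ψ : A × (Fin g → A) →ₗ[A] N :=
        (LinearMap.toSpanSingleton A N y₀).coprod (Fintype.linearCombination A y)
      refine ⟨ψ, LinearMap.ext fun f => hιN ?_⟩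
      obtain ⟨s, -, rfl⟩ := hdecomp f
      simp only [map_sum, LinearMap.comp_apply, Submodule.coe_subtype]
      refine Finset.sum_congr rfl fun a _ => ?_
      rw [hlin φ a (s a)]
      have h2 := hlin (ψ ∘ₗ K.subtype) a (s a)
      simp only [LinearMap.comp_apply, Submodule.coe_subtype] at h2
      rw [h2]
      congr 1
      show val φ a = ιN (ψ (u a 1).1)
      rw [hpush, hx a]
      simp [ψ, hy, Fintype.linearCombination_apply, Pi.single_apply]
    · rintro ⟨ψ, rfl⟩
      exact ⟨_, LinearMap.mem_range_self ιN (ψ (1, 0)), _,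
        fun a => LinearMap.mem_range_self ιN (ψ (0, Pi.single a 1)), fun a => hpush ψ a⟩

end Groth.Agent.CubicExtLib
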