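import Groth.Agent.CubicExtLib.Basic

/-!
# The three computations
-/

set_option autoImplicit false
set_option backward.isDefEq.respectTransparency false
set_option linter.style.haveILetI false

universe u

open CategoryTheory Abelian PowerSeries

namespace Groth.Agent.CubicExtLib

variable {k : Type u} [Field k] {n : ℕ} {A : Subalgebra k (PowerSeries k)}

theorem coeff_X_pow_mul_le (e d : ℕ) (r : PowerSeries k) (h : e ≤ d) :
    coeff d (X ^ e * r) = coeff (d - e) r := by
  rw [PowerSeries.coeff_X_pow_mul', if_pos h]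

theorem coeff_X_pow_mul_lt (e d : ℕ) (r : PowerSeries k) (h : d < e) : coeff d (X ^ e * r) = 0 := by
  rw [PowerSeries.coeff_X_pow_mul', if_neg h.not_ge]

/-- The coefficient functional on a tuple of series. -/
noncomputable def cf {g : ℕ} (a : Fin g) (d : ℕ) : (Fin g → PowerSeries k) →ₗ[k] k :=
  (coeff d).comp (LinearMap.proj a)

@[simp] theorem cf_apply {g : ℕ} (a : Fin g) (d : ℕ) (x : Fin g → PowerSeries k) :
    cf a d x = coeff d (x a) := rfl

/-- A series all of whose multiples avoid a degree `D` has no term up to degree `D`. -/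
theorem coeff_eq_zero_of_mul {x : PowerSeries k} {D : ℕ} (h : ∀ r, coeff D (r * x) = 0) {d : ℕ}
    (hd : d ≤ D) : coeff d x = 0 := by
  have := h (X ^ (D - d))
  rwa [coeff_X_pow_mul_le _ _ _ (by omega), show D - (D - d) = d by omega] at this

theorem monomial_set (n i : ℕ) : ((Finset.range (i + 1) : Finset ℕ) : Set ℕ) = Set.Iic i := by
  ext m; simp

theorem mem_M1 (hA : IsCubical A n) {i : ℕ} (hi : i + 2 ≤ n) (f : PowerSeries k) :
    f ∈ Submodule.span A ((fun a : ℕ => (X : PowerSeries k) ^ a) '' Set.Iic i) ↔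
      ∀ m, i < m → m < n → coeff m f = 0 := by
  rw [← monomial_set n i, mem_span_monomial hA (by simp) (fun e he => by simp at he; omega)]
  constructor
  · intro h m hm hmn
    by_contra hne
    have := h m hmn hne
    simp at this
    omega
  · intro h m hmn hne
    simp only [Finset.mem_range]
    by_contra hcon
    exact hne (h m (by omega) hmn)

theorem span_M1 {i : ℕ} :
    insert (1 : PowerSeries k) (Set.range fun a : Fin i => (X : PowerSeries k) ^ (a.val + 1)) =
      (fun a : ℕ => (X : PowerSeries k) ^ a) '' Set.Iic i := by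
  ext f
  simp only [Set.mem_insert_iff, Set.mem_range, Set.mem_image, Set.mem_Iic]
  constructor
  · rintro (rfl | ⟨a, rfl⟩)
    · exact ⟨0, Nat.zero_le _, pow_zero _⟩
    · exact ⟨a.val + 1, a.isLt, rfl⟩
  · rintro ⟨m, hm, rfl⟩
    rcases Nat.eq_zero_or_pos m with rfl | h
    · exact Or.inl (pow_zero _)
    · exact Or.inr ⟨⟨m - 1, by omega⟩, by simp [Nat.sub_add_cancel h]⟩

/-- `Ext¹(M_i, M_i)`. -/
theorem length_ext_monomialModule (hA : IsCubical A n) (i : ℕ) (hi : i + 2 ≤ n) :
    Module.length A (Ext.{u} (ModuleCat.of A ↥(Submodule.span A ((fun a : ℕ => (X : PowerSeries k) ^ a) '' Set.Iic i)))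
      (ModuleCat.of A ↥(Submodule.span A ((fun a : ℕ => (X : PowerSeries k) ^ a) '' Set.Iic i))) 1)
      = ((i * (n - 2 - i) : ℕ) : ℕ∞) := by
  classical
  set S := Submodule.span A ((fun a : ℕ => (X : PowerSeries k) ^ a) '' Set.Iic i) with hS
  -- the degree of the pivot attached to `e = i + 1 + j - a`
  let Φ₀ : (Fin i → PowerSeries k) →ₗ[k] ((Fin i × Fin (n - 2 - i)) → k) :=
    LinearMap.pi fun p => cf p.1 (n + (i + 2 + p.2.val)) -
      if h : i + 1 + p.2.val - p.1.val ≤ i then
        cf (⟨i - (i + 1 + p.2.val - p.1.val), by omega⟩ : Fin i) (n + (i + 1)) else 0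
  have hΦ : ∀ x a (j : Fin (n - 2 - i)), Φ₀ x (a, j) = coeff (n + (i + 2 + j.val)) (x a) -
      if h : i + 1 + j.val - a.val ≤ i then
        coeff (n + (i + 1)) (x ⟨i - (i + 1 + j.val - a.val), by omega⟩) else 0 := by
    intro x a j
    simp only [Φ₀, LinearMap.pi_apply, LinearMap.sub_apply, cf_apply]
    split_ifs <;> rfl
  rw [show i * (n - 2 - i) = Fintype.card (Fin i × Fin (n - 2 - i)) by simp]
  refine length_ext_monomial hA (fun a : Fin i => a.val + 1) (fun a b h => Fin.ext (Nat.succ_injective h))
    (fun a => Nat.succ_pos _) (fun a => by omega) S.subtype Subtype.val_injective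
    (fun f => by rw [Submodule.range_subtype, span_M1])
    S.subtype Subtype.val_injective Φ₀ (fun v => ?_) (fun x hx => ?_)
  · let y : Fin i → PowerSeries k := fun a =>
      PowerSeries.mk fun m => if h : i + 2 ≤ m ∧ m < n then v (a, ⟨m - (i + 2), by omega⟩) else 0
    refine ⟨fun a => X ^ n * y a, fun a r => ?_, funext fun ⟨a, j⟩ => ?_⟩
    · rw [Submodule.range_subtype, hS, mem_M1 hA hi]
      intro m _ hm
      rw [mul_left_comm, coeff_X_pow_mul_lt _ _ _ hm]
    · rw [hΦ]
      simp only [coeff_X_pow_mul_le _ _ _ (Nat.le_add_right n _), Nat.add_sub_cancel_left, y,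
        PowerSeries.coeff_mk]
      rw [dif_pos ⟨by omega, by omega⟩]
      have : (if h : i + 1 + j.val - a.val ≤ i then
          (if h : i + 2 ≤ i + 1 ∧ i + 1 < n then
            v (⟨i - (i + 1 + j.val - a.val), by omega⟩, ⟨i + 1 - (i + 2), by omega⟩) else 0) else (0 : k)) = 0 := by
        split_ifs with h1 h2
        · omega
        all_goals rfl
      rw [this, sub_zero]
  · have hz : ∀ a d, d < n → coeff d (x a) = 0 := fun a d hd => by
      refine coeff_eq_zero_of_mul (D := n - 1) (fun r => ?_) (by omega)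
      have := hx a r
      rw [Submodule.range_subtype, hS, mem_M1 hA hi] at this
      exact this (n - 1) (by omega) (by omega)
    have hdiv : ∀ a, ∃ y, x a = X ^ n * y := fun a =>
      PowerSeries.X_pow_dvd_iff.2 (hz a)
    choose y hy using hdiv
    have hc : ∀ a d, coeff (n + d) (x a) = coeff d (y a) := fun a d => by
      rw [hy, coeff_X_pow_mul_le _ _ _ (Nat.le_add_right n d), Nat.add_sub_cancel_left]
    simp only [Submodule.range_subtype, hS, mem_M1 hA hi, funext_iff, Prod.forall, hΦ, Pi.zero_apply, hc]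
    constructor
    · intro h
      let r₀ : PowerSeries k := PowerSeries.mk fun e =>
        if he : 1 ≤ e ∧ e ≤ i then -coeff (i + 1) (y ⟨i - e, by omega⟩) else 0
      refine ⟨r₀, fun m hm _ => ?_, fun a => y a + X ^ (a.val + 1) * r₀, fun a m hm hmn => ?_, fun a => ?_⟩
      · simp only [r₀, PowerSeries.coeff_mk]
        rw [dif_neg (by omega)]
      · rw [map_add, coeff_X_pow_mul_le _ _ _ (by omega)]
        simp only [r₀, PowerSeries.coeff_mk]
        rcases eq_or_lt_of_le (show i + 1 ≤ m from hm) with h' | h'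
        · subst h'
          rw [dif_pos (by omega), show (⟨i - (i + 1 - (a.val + 1)), by omega⟩ : Fin i) = a from
            Fin.ext (show i - (i + 1 - (a.val + 1)) = a.val by omega), add_neg_cancel]
        · have h2 := h a ⟨m - (i + 2), by omega⟩
          simp only [show i + 2 + (m - (i + 2)) = m by omega] at h2
          by_cases he : i + 1 + (m - (i + 2)) - a.val ≤ i
          · rw [dif_pos he] at h2
            rw [dif_pos (by omega)]
            simp only [show m - (a.val + 1) = i + 1 + (m - (i + 2)) - a.val by omega]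
            rw [← sub_eq_add_neg]
            exact h2
          · rw [dif_neg he, sub_zero] at h2
            rw [dif_neg (by omega), h2, add_zero]
      · rw [hy a]; ring
    · rintro ⟨r₀, hr₀, r, hr, hxr⟩ a j
      have hy' : ∀ b, y b = r b - X ^ (b.val + 1) * r₀ := fun b =>
        mul_left_cancel₀ (pow_ne_zero n PowerSeries.X_ne_zero) ((hy b).symm.trans (hxr b))
      have hval : ∀ b : Fin i, ∀ d, i < d → d < n → coeff d (y b) = -coeff (d - (b.val + 1)) r₀ := by
        intro b d hd hdn
        rw [hy', map_sub, hr b d hd hdn, zero_sub, coeff_X_pow_mul_le _ _ _ (by omega)]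
      rw [hval a _ (by omega) (by omega)]
      by_cases he : i + 1 + j.val - a.val ≤ i
      · rw [dif_pos he, hval _ _ (by omega) (by omega)]
        simp only [show i + 2 + j.val - (a.val + 1) = i + 1 - (i - (i + 1 + j.val - a.val) + 1) by omega]
        rw [sub_self]
      · rw [dif_neg he, hr₀ _ (by omega) (by omega), neg_zero, sub_zero]

/-- `Ext¹(k[[t]], k[[t]])`. -/
theorem length_ext_normalization (hA : IsCubical A n) (hn : 2 ≤ n) :
    Module.length A (Ext.{u} (ModuleCat.of A (PowerSeries k)) (ModuleCat.of A (PowerSeries k)) 1)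
      = ((n * (n - 1) : ℕ) : ℕ∞) := by
  classical
  let Φ₀ : (Fin (n - 1) → PowerSeries k) →ₗ[k] ((Fin (n - 1) × Fin n) → k) :=
    LinearMap.pi fun p => cf p.1 p.2.val
  rw [show n * (n - 1) = Fintype.card (Fin (n - 1) × Fin n) by simp [mul_comm]]
  refine length_ext_monomial hA (fun a : Fin (n - 1) => a.val + 1)
    (fun a b h => Fin.ext (Nat.succ_injective h))
    (fun a => Nat.succ_pos _) (fun a => by omega) LinearMap.id Function.injective_id
    (fun f => iff_of_true ⟨f, rfl⟩ ?_) LinearMap.id Function.injective_id Φ₀ (fun v => ?_) (fun x _ => ?_)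
  · rw [span_M1, ← monomial_set n (n - 1), mem_span_monomial hA (by simp)
      (fun e he => by simp at he; omega)]
    intro m hm _
    simp
    omega
  · refine ⟨fun a => PowerSeries.mk fun m => if h : m < n then v (a, ⟨m, h⟩) else 0,
      fun a r => ⟨_, rfl⟩, funext fun ⟨a, j⟩ => ?_⟩
    simp [Φ₀]
  · constructor
    · intro h
      have hdiv : ∀ a, ∃ y, x a = X ^ n * y := fun a => PowerSeries.X_pow_dvd_iff.2 fun d hd => by
        have := congrFun h (a, ⟨d, hd⟩)
        simpa [Φ₀] using this
      choose y hy using hdiv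
      exact ⟨0, zero_mem _, y, fun a => ⟨_, rfl⟩, fun a => by simp [hy a]⟩
    · rintro ⟨r₀, -, r, -, hxr⟩
      funext ⟨a, j⟩
      simp [Φ₀, hxr a, coeff_X_pow_mul_lt _ _ _ j.isLt]

/-- `End(k[[t]]) / A`. -/
theorem length_end_normalization (hA : IsCubical A n) (hn : 2 ≤ n) :
    Module.length A ((PowerSeries k →ₗ[A] PowerSeries k) ⧸ LinearMap.range
      (Algebra.lsmul A A (PowerSeries k) : A →ₐ[A] Module.End A (PowerSeries k)).toLinearMap)
      = ((n - 1 : ℕ) : ℕ∞) := by
  classical
  letI := resModule A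
  have hsm : ∀ (c : A) (z : PowerSeries k), c • z = (c : PowerSeries k) * z := fun _ _ => rfl
  have hXn : (X : PowerSeries k) ^ n ≠ 0 := pow_ne_zero _ PowerSeries.X_ne_zero
  let sh : PowerSeries k → A := fun s => ⟨X ^ n * s, X_pow_mul_mem hA s⟩
  have hlin : ∀ (φ : PowerSeries k →ₗ[A] PowerSeries k) f, φ f = f * φ 1 := fun φ f => by
    have h2 := congrArg φ (show sh 1 • f = sh f • (1 : PowerSeries k) by simp [hsm, sh])
    rw [map_smul, map_smul, hsm, hsm] at h2
    simp only [sh, mul_one, mul_assoc] at h2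
    exact mul_left_cancel₀ hXn h2
  let Φ : (PowerSeries k →ₗ[A] PowerSeries k) →ₗ[A] (Fin (n - 1) → k) :=
    { toFun := fun φ a => coeff (a.val + 1) (φ 1)
      map_add' := fun φ ψ => funext fun a => by simp
      map_smul' := fun c φ => funext fun a => by
        show coeff (a.val + 1) (c • φ 1) = ev A c * coeff (a.val + 1) (φ 1)
        rw [hsm, coeff_mul_lt hA c _ (by omega)] }
  have hsurj : Function.Surjective Φ := fun v => by
    let y : PowerSeries k := PowerSeries.mk fun m => if h : 1 ≤ m ∧ m < n then v ⟨m - 1, by omega⟩ else 0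
    let φ : PowerSeries k →ₗ[A] PowerSeries k :=
      { toFun := fun f => f * y
        map_add' := fun f g => add_mul f g y
        map_smul' := fun c f => mul_assoc _ _ _ }
    refine ⟨φ, funext fun a => ?_⟩
    show coeff (a.val + 1) (1 * y) = v a
    rw [one_mul, PowerSeries.coeff_mk, dif_pos (by omega)]
    rfl
  have hker : LinearMap.range (Algebra.lsmul A A (PowerSeries k) : A →ₐ[A] Module.End A (PowerSeries k)).toLinearMap
      = LinearMap.ker Φ := by
    ext φ
    constructor
    · rintro ⟨c, rfl⟩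
      refine LinearMap.mem_ker.2 (funext fun a => ?_)
      show coeff (a.val + 1) (c • (1 : PowerSeries k)) = 0
      rw [hsm, coeff_mul_lt hA c _ (by omega), PowerSeries.coeff_one, if_neg (by omega), mul_zero]
    · intro h
      have hmem : φ 1 ∈ A := (hA _).2 fun m hm => by
        by_contra hcon
        push Not at hcon
        have := congrFun (LinearMap.mem_ker.1 h) ⟨m - 1, by omega⟩
        simp only [Φ, LinearMap.coe_mk, AddHom.coe_mk, show m - 1 + 1 = m by omega] at this
        exact hm this
      refine ⟨⟨φ 1, hmem⟩, LinearMap.ext fun f => ?_⟩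
      show (φ 1) * f = φ f
      rw [hlin φ f, mul_comm]
  rw [((Submodule.quotEquivOfEq _ _ hker).trans (Φ.quotKerEquivOfSurjective hsurj)).length_eq,
    length_pi_res, Fintype.card_fin]

theorem mem_M2 (hA : IsCubical A n) {i : ℕ} (hi : i + 2 ≤ n) (f : PowerSeries k) :
    f ∈ Submodule.span A ((fun a : ℕ => (X : PowerSeries k) ^ a) '' ({0} ∪ Set.Icc (n - i) (n - 1))) ↔
      ∀ m, 1 ≤ m → m < n - i → coeff m f = 0 := by
  have : ((insert 0 (Finset.Icc (n - i) (n - 1)) : Finset ℕ) : Set ℕ) = {0} ∪ Set.Icc (n - i) (n - 1) := by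
    ext m; simp
  rw [← this, mem_span_monomial hA (by simp) (fun e he => by simp at he; omega)]
  constructor
  · intro h m hm hmn
    by_contra hne
    have := h m (by omega) hne
    simp at this
    omega
  · intro h m hmn hne
    simp only [Finset.mem_insert, Finset.mem_Icc]
    by_contra hcon
    exact hne (h m (by omega) (by omega))

theorem span_M2 {i : ℕ} (hi : i + 2 ≤ n) :
    insert (1 : PowerSeries k) (Set.range fun a : Fin i => (X : PowerSeries k) ^ (n - i + a.val)) =
      (fun a : ℕ => (X : PowerSeries k) ^ a) '' ({0} ∪ Set.Icc (n - i) (n - 1)) := by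
  ext f
  simp only [Set.mem_insert_iff, Set.mem_range, Set.mem_image, Set.mem_union, Set.mem_singleton_iff,
    Set.mem_Icc]
  constructor
  · rintro (rfl | ⟨a, rfl⟩)
    · exact ⟨0, Or.inl rfl, pow_zero _⟩
    · exact ⟨n - i + a.val, Or.inr ⟨by omega, by omega⟩, rfl⟩
  · rintro ⟨m, hm | hm, rfl⟩
    · subst hm; exact Or.inl (pow_zero _)
    · exact Or.inr ⟨⟨m - (n - i), by omega⟩, by simp only; congr 1; omega⟩

/-- `Ext¹(R_{n-i}, R_{n-i})`. -/
theorem length_ext_partialNormalization (hA : IsCubical A n) (i : ℕ) (hi : i + 2 ≤ n) :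
    Module.length A (Ext.{u}
      (ModuleCat.of A ↥(Submodule.span A ((fun a : ℕ => (X : PowerSeries k) ^ a) '' ({0} ∪ Set.Icc (n - i) (n - 1)))))
      (ModuleCat.of A ↥(Submodule.span A ((fun a : ℕ => (X : PowerSeries k) ^ a) '' ({0} ∪ Set.Icc (n - i) (n - 1))))) 1)
      = ((i * (n - 1) : ℕ) : ℕ∞) := by
  classical
  set S := Submodule.span A ((fun a : ℕ => (X : PowerSeries k) ^ a) '' ({0} ∪ Set.Icc (n - i) (n - 1)))
    with hS
  let deg : Fin i ⊕ Fin (n - i - 1) → ℕ := Sum.elim (fun j => n - i + j.val) (fun j => n + 1 + j.val)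
  let Φ₀ : (Fin i → PowerSeries k) →ₗ[k] ((Fin i × (Fin i ⊕ Fin (n - i - 1))) → k) :=
    LinearMap.pi fun p => cf p.1 (deg p.2)
  have hΦ : ∀ x p, Φ₀ x p = coeff (deg p.2) (x p.1) := fun x p => rfl
  rw [show i * (n - 1) = Fintype.card (Fin i × (Fin i ⊕ Fin (n - i - 1))) by
    simp; rw [show i + (n - i - 1) = n - 1 by omega]; simp]
  refine length_ext_monomial hA (fun a : Fin i => n - i + a.val)
    (fun a b h => Fin.ext (Nat.add_left_cancel h))
    (fun a => by omega) (fun a => by omega) S.subtype Subtype.val_injective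
    (fun f => by rw [Submodule.range_subtype, span_M2 hi])
    S.subtype Subtype.val_injective Φ₀ (fun v => ?_) (fun x hx => ?_)
  · let x : Fin i → PowerSeries k := fun a => PowerSeries.mk fun m =>
      if h : n - i ≤ m ∧ m < n then v (a, Sum.inl ⟨m - (n - i), by omega⟩)
      else if h' : n + 1 ≤ m ∧ m < 2 * n - i then v (a, Sum.inr ⟨m - (n + 1), by omega⟩) else 0
    refine ⟨x, fun a r => ?_, funext fun ⟨a, s⟩ => ?_⟩
    · have hdvd : (X : PowerSeries k) ^ (n - i) ∣ x a := PowerSeries.X_pow_dvd_iff.2 fun d hd => by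
        simp only [x, PowerSeries.coeff_mk]
        rw [dif_neg (by omega), dif_neg (by omega)]
      rw [Submodule.range_subtype, hS, mem_M2 hA hi]
      intro m _ hm
      exact PowerSeries.X_pow_dvd_iff.1 (hdvd.mul_left r) m hm
    · rw [hΦ]
      simp only [x, PowerSeries.coeff_mk]
      rcases s with j | j
      · simp only [deg, Sum.elim_inl]
        rw [dif_pos (by omega)]
        simp
      · simp only [deg, Sum.elim_inr]
        rw [dif_neg (by omega), dif_pos (by omega)]
        simp
  · have hz : ∀ a d, d < n - i → coeff d (x a) = 0 := fun a d hd => by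
      refine coeff_eq_zero_of_mul (D := n - i - 1) (fun r => ?_) (by omega)
      have := hx a r
      rw [Submodule.range_subtype, hS, mem_M2 hA hi] at this
      exact this (n - i - 1) (by omega) (by omega)
    simp only [Submodule.range_subtype, hS, mem_M2 hA hi, funext_iff, Prod.forall, hΦ, Pi.zero_apply]
    constructor
    · intro h
      have hdiv : ∀ a, ∃ y, x a = X ^ n * y := fun a => PowerSeries.X_pow_dvd_iff.2 fun d hd => by
        rcases lt_or_ge d (n - i) with hd' | hd'
        · exact hz a d hd'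
        · have := h a (Sum.inl ⟨d - (n - i), by omega⟩)
          simpa [deg, show n - i + (d - (n - i)) = d by omega] using this
      choose y hy using hdiv
      refine ⟨0, fun m _ _ => map_zero _, y, fun a m hm hmn => ?_, fun a => by simp [hy a]⟩
      have := h a (Sum.inr ⟨m - 1, by omega⟩)
      simp only [deg, Sum.elim_inr, show n + 1 + (m - 1) = n + m by omega, hy a,
        coeff_X_pow_mul_le _ _ _ (Nat.le_add_right n m), Nat.add_sub_cancel_left] at this
      exact this
    · rintro ⟨r₀, -, r, hr, hxr⟩ a s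
      rcases s with j | j
      · rw [hxr a]
        exact coeff_X_pow_mul_lt _ _ _ (by simp [deg]; omega)
      · simp only [deg, Sum.elim_inr]
        rw [hxr a, coeff_X_pow_mul_le _ _ _ (by omega), map_sub, show n + 1 + j.val - n = 1 + j.val by omega,
          hr a _ (by omega) (by omega), coeff_X_pow_mul_lt _ _ _ (by omega), sub_zero]

end Groth.Agent.CubicExtLib
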